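import Cfsg.Agent.Lib.Comp.Tv5x.Base

set_option maxRecDepth 100000
set_option Elab.async false

namespace Cfsg.Lib.Comp.Tv5x

universe u

noncomputable def T0_R : List (List ℕ × ℕ) := (apd [([1],1),
 ([2],1),
 ([3],1),
 ([4],1),
 ([1,2],1),
 ([1,3],1),
 ([2,3],1),
 ([1,4],1),
 ([2,4],1),
 ([3,4],1),
 ([5],1),
 ([6],1),
 ([7],1),
 ([2,5],1),
 ([4,5],1),
 ([2,6],1),
 ([4,6],1),
 ([5,6],1),
 ([2,7],1),
 ([4,7],1),
 ([5,7],1),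
 ([6,7],1),
 ([1,7,3,7],0),
 ([1,4,6,3,6],0),
 ([1,2,4,5,3,5],0),
 ([8],1),
 ([1,8],1),
 ([4,8],1),
 ([6,8],2),
 ([7,8],2),
 ([5,8],3),
 ([2,8],3),
 ([3,8],3),
 ([1,4,8,7,8,7,2,8,7],0),
 ([5,8,6,7,8],1),
 ([1,5,6,3,8,5,8,6,8,5,8],0),
 ([9],1),
 ([1,9],1),
 ([3,9],1),
 ([4,9],1)]
 [([6,9],1),
 ([4,7,9,7,9],0),
 ([5,6,9,5,9],0),
 ([8,9],2)])

noncomputable def T0_n_5 : Net :=
 (Net.cons 2 (nat_lit 0x200)
 (Net.cons 1 (nat_lit 0x404)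
 (Net.cons 2 (nat_lit 0x230)
 Net.nil)))

noncomputable def T0_n_6 : Net :=
 (Net.cons 8 (nat_lit 0xa0)
 (Net.cons 4 (nat_lit 0x804)
 (Net.cons 1 (nat_lit 0x404)
 (Net.cons 2 (nat_lit 0x10)
 (Net.cons 4 (nat_lit 0xa04)
 (Net.cons 8 (nat_lit 0xa0)
 Net.nil))))))

noncomputable def T0_n_7 : Net :=
 (Net.cons 8 (nat_lit 0x50)
 (Net.cons 4 (nat_lit 0x204)
 (Net.cons 2 (nat_lit 0x20)
 (Net.cons 1 (nat_lit 0x1040)
 (Net.cons 2 (nat_lit 0x20)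
 (Net.cons 4 (nat_lit 0x60c)
 (Net.cons 8 (nat_lit 0x50)
 Net.nil)))))))

noncomputable def T0_n_8 : Net :=
 (Net.cons 8 (nat_lit 0x1e)
 (Net.cons 4 (nat_lit 0x4)
 (Net.cons 1 (nat_lit 0x500)
 (Net.cons 2 (nat_lit 0x312)
 (Net.cons 4 (nat_lit 0x4)
 (Net.cons 8 (nat_lit 0x1e)
 Net.nil))))))

noncomputable def T0_n_9 : Net :=
 (Net.cons 8 (nat_lit 0x80)
 (Net.cons 4 (nat_lit 0x808)
 (Net.cons 1 (nat_lit 0x441)
 (Net.cons 2 (nat_lit 0x2000)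
 (Net.cons 4 (nat_lit 0x808)
 (Net.cons 8 (nat_lit 0x80)
 Net.nil))))))

noncomputable def T0_n : List Net := [Net.nil,
 Net.nil,
 Net.nil,
 Net.nil,
 Net.nil,
 T0_n_5,
 T0_n_6,
 T0_n_7,
 T0_n_8,
 T0_n_9]

theorem T0_n_ok : NetsOK 16 T0_n := netsOK_of (by decide +kernel)

theorem T0_n_rel : Rels (gp T0_n) T0_R := rels_of_relsB (k := 4) T0_n_ok (by norm_num) (by decide +kernel)

theorem T0_fin : finB 16 T0_n [1,2,3,4,5,6,7,8,9] 14 (runH 16 T0_n (fun x p => ptInv (nth Net.nil T0_n x) p) iv T0_R [] ([1,2,3,4,5,6,7,8].map fun x => [x]) 0 []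
  (apd [1,5,9,13,17,21,25,29,40,44,48,68,80,84,100,144,148,152,156,160,164,168,172,96,104,108,112,116,120,132,136,140,160,164,168,52,56,60,64,76,88,92,96,104,108,112,116,132,136,140,148,152,156,160,164,168,172,96,104,132]
 [140])
  (defsH 16 T0_n (ones 160) [9,8,5,6,7,8,9] (Nat.shiftLeft 1 0) 0)) = true := by decide +kernel

theorem T0_idx : Idx.{u} iv (T0_R ++ []) ([1,2,3,4,5,6,7,8].map fun x => [x]) [1,2,3,4,5,6,7,8,9] 14 :=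
  Reach.idx T0_n_ok (reach_runH T0_n_ok (fun x p _ => ptInv_gp T0_n_ok x p) T0_n_rel (reach_defsH T0_n_ok _ _ _ _ _ _) _ _) T0_fin (by norm_num)

end Cfsg.Lib.Comp.Tv5x
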