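import Cfsg.Agent.Lib.Comp.Tv5x.Base

set_option maxRecDepth 100000
set_option Elab.async false

namespace Cfsg.Lib.Comp.Tv5x

universe u

noncomputable def T1_R : List (List ℕ × ℕ) := [([1],1),
 ([2],1),
 ([3],1),
 ([4],1),
 ([1,2],1),
 ([1,3],1),
 ([2,3],1),
 ([1,4],1),
 ([2,4],1),
 ([3,4],1),
 ([5],1),
 ([6],1),
 ([7],1),
 ([2,5],1),
 ([4,5],1),
 ([2,6],1),
 ([4,6],1),
 ([5,6],1),
 ([2,7],1),
 ([4,7],1),
 ([5,7],1),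
 ([6,7],1),
 ([1,7,3,7],0),
 ([1,4,6,3,6],0),
 ([1,2,4,5,3,5],0),
 ([8],1),
 ([1,8],1),
 ([4,8],1),
 ([6,8],2),
 ([7,8],2),
 ([5,8],3),
 ([2,8],3),
 ([3,8],3),
 ([1,4,8,7,8,7,2,8,7],0),
 ([5,8,6,7,8],1),
 ([1,5,6,3,8,5,8,6,8,5,8],0)]

noncomputable def T1_n_5 : Net :=
 (Net.cons 6 (nat_lit 0x10)
 (Net.cons 3 (nat_lit 0x180)
 (Net.cons 1 (nat_lit 0x248)
 (Net.cons 1 (nat_lit 0x412)
 (Net.cons 1 (nat_lit 0x208)
 (Net.cons 3 (nat_lit 0x180)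
 (Net.cons 6 (nat_lit 0x10)
 Net.nil)))))))

noncomputable def T1_n_6 : Net :=
 (Net.cons 6 (nat_lit 0x10)
 (Net.cons 3 (nat_lit 0x102)
 (Net.cons 1 (nat_lit 0x8)
 (Net.cons 1 (nat_lit 0x400)
 (Net.cons 3 (nat_lit 0x146)
 (Net.cons 6 (nat_lit 0x10)
 Net.nil))))))

noncomputable def T1_n_7 : Net :=
 (Net.cons 6 (nat_lit 0x24)
 (Net.cons 3 (nat_lit 0x4)
 (Net.cons 1 (nat_lit 0x248)
 (Net.cons 1 (nat_lit 0x490)
 (Net.cons 1 (nat_lit 0x248)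
 (Net.cons 3 (nat_lit 0x6)
 (Net.cons 6 (nat_lit 0x24)
 Net.nil)))))))

noncomputable def T1_n_8 : Net :=
 (Net.cons 6 (nat_lit 0x14)
 (Net.cons 3 (nat_lit 0x4)
 (Net.cons 1 (nat_lit 0x201)
 (Net.cons 1 (nat_lit 0x490)
 (Net.cons 1 (nat_lit 0x200)
 (Net.cons 3 (nat_lit 0x4)
 (Net.cons 6 (nat_lit 0x14)
 Net.nil)))))))

noncomputable def T1_n : List Net := [Net.nil,
 Net.nil,
 Net.nil,
 Net.nil,
 Net.nil,
 T1_n_5,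
 T1_n_6,
 T1_n_7,
 T1_n_8]

theorem T1_n_ok : NetsOK 12 T1_n := netsOK_of (by decide +kernel)

theorem T1_n_rel : Rels (gp T1_n) T1_R := rels_of_relsB (k := 4) T1_n_ok (by norm_num) (by decide +kernel)

theorem T1_fin : finB 12 T1_n [1,2,3,4,5,6,7,8] 12 (runH 12 T1_n (fun x p => ptInv (nth Net.nil T1_n x) p) iv T1_R [] ([1,2,3,4,5,6,7].map fun x => [x]) 0 []
  [1,5,9,13,17,21,25,40,44,48,68,80,84,100,104,108,112,116,120,132,136,140,52,56,60,64,76,88,92,96,104,108,112,116,132,136,140,96,104,132,140]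
  (defsH 12 T1_n (ones 120) [8,5,6,7,8] (Nat.shiftLeft 1 0) 0)) = true := by decide +kernel

theorem T1_idx : Idx.{u} iv (T1_R ++ []) ([1,2,3,4,5,6,7].map fun x => [x]) [1,2,3,4,5,6,7,8] 12 :=
  Reach.idx T1_n_ok (reach_runH T1_n_ok (fun x p _ => ptInv_gp T1_n_ok x p) T1_n_rel (reach_defsH T1_n_ok _ _ _ _ _ _) _ _) T1_fin (by norm_num)

end Cfsg.Lib.Comp.Tv5x
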