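import Cfsg.Agent.Lib.Comp.Tv5x.Perm
import Cfsg.Agent.Lib.Comp.PermGrp
import Cfsg.Agent.Lib.Comp.Bridge2
import Cfsg.Agent.Lib.Comp.Tv5x.T0
import Cfsg.Agent.Lib.Comp.Tv5x.T1
import Cfsg.Agent.Lib.Comp.Tv5x.T2
import Cfsg.Agent.Lib.Comp.Tv5x.T3

set_option maxRecDepth 100000
set_option Elab.async false

namespace Cfsg.Lib.Comp.Tv5x

universe u

theorem T3_ord : Ord.{u} iv T3_R [1,2,3,4] 16 :=
  (T3_idx.ord_base).of_cons (cons_of_subset (by decide +kernel))

theorem T2_ord : Ord.{u} iv T2_R [1,2,3,4,5,6,7] 128 :=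
  (T2_idx.ord_step T3_ord).of_cons (cons_of_subset (by decide +kernel))

theorem T1_ord : Ord.{u} iv T1_R [1,2,3,4,5,6,7,8] 1536 :=
  (T1_idx.ord_step T2_ord).of_cons (cons_of_subset (by decide +kernel))

theorem T0_ord : Ord.{u} iv T0_R [1,2,3,4,5,6,7,8,9] 21504 :=
  (T0_idx.ord_step T1_ord).of_cons (cons_of_subset (by decide +kernel))

theorem ord : Ord.{u} iv R L 21504 := T0_ord.of_cons (cons_of_subset (by decide +kernel))

theorem card : Nat.card (cl (gp nets) L) = 21504 := card_of_ord ord nets_iv nets_rel lb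

end Cfsg.Lib.Comp.Tv5x
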