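import Cfsg.Agent.Lib.Comp.Fast

set_option maxRecDepth 100000
set_option Elab.async false

namespace Cfsg.Lib.Comp.Tv5x

universe u

def iv : ℕ → ℕ := (fun x => x)

noncomputable def R : List (List ℕ × ℕ) := (apd [([1],1),
 ([2],1),
 ([3],1),
 ([4],1),
 ([1,2],1),
 ([1,3],1),
 ([2,3],1),
 ([1,4],1),
 ([2,4],1),
 ([3,4],1),
 ([5],1),
 ([6],1),
 ([7],1),
 ([2,5],1),
 ([4,5],1),
 ([2,6],1),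
 ([4,6],1),
 ([5,6],1),
 ([2,7],1),
 ([4,7],1),
 ([5,7],1),
 ([6,7],1),
 ([1,7,3,7],0),
 ([1,4,6,3,6],0),
 ([1,2,4,5,3,5],0),
 ([8],1),
 ([1,8],1),
 ([4,8],1),
 ([6,8],2),
 ([7,8],2),
 ([5,8],3),
 ([2,8],3),
 ([3,8],3),
 ([1,4,8,7,8,7,2,8,7],0),
 ([5,8,6,7,8],1),
 ([1,5,6,3,8,5,8,6,8,5,8],0),
 ([9],1),
 ([1,9],1),
 ([3,9],1),
 ([4,9],1)]
 [([6,9],1),
 ([4,7,9,7,9],0),
 ([5,6,9,5,9],0),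
 ([8,9],2)])

def L : List ℕ := [1,2,3,4,5,6,7,8,9]

end Cfsg.Lib.Comp.Tv5x
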