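import Cfsg.Agent.Lib.Comp.Tv5x.Main
import Cfsg.Agent.Lib.Comp.Cen
import Cfsg.Agent.Lib.Fis.Tv5

set_option maxRecDepth 100000

namespace Cfsg.Lib.Comp.Tv5x

open Cfsg.Lib.MatB Cfsg.Lib.Fis Matrix

def mx (x : ℕ) : Fin 7 → ZMod 2 := [![0, 0, 0, 0, 0, 0, 0],
  ![1, 1, 0, 1, 0, 0, 0],
  ![1, 1, 1, 0, 0, 0, 0],
  ![1, 1, 1, 1, 0, 0, 0],
  ![1, 0, 0, 0, 0, 0, 0],
  ![1, 1, 0, 0, 0, 0, 0],
  ![0, 1, 0, 0, 0, 0, 1],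
  ![0, 1, 0, 0, 0, 0, 0],
  ![1, 1, 0, 1, 0, 1, 0],
  ![1, 1, 0, 1, 1, 0, 1]].getD x 0

def mA (x : ℕ) : Matrix (Fin 3) (Fin 3) (ZMod 2) := [1,
  !![1, 0, 0; 0, 1, 0; 0, 0, 1],
  !![1, 0, 0; 0, 1, 0; 0, 0, 1],
  !![1, 0, 0; 0, 1, 0; 0, 0, 1],
  !![1, 0, 0; 0, 1, 0; 0, 0, 1],
  !![1, 0, 0; 0, 1, 0; 1, 0, 1],
  !![1, 0, 0; 0, 1, 0; 0, 1, 1],
  !![1, 0, 0; 0, 1, 0; 0, 1, 1],
  !![1, 0, 0; 0, 1, 1; 0, 0, 1],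
  !![1, 1, 0; 0, 1, 0; 0, 1, 1]].getD x 1

def mv (p : ℕ) : Fin 5 → ZMod 2 := [![1, 0, 0, 0, 0],
  ![1, 0, 1, 0, 0],
  ![1, 1, 1, 0, 0],
  ![1, 0, 1, 1, 0],
  ![1, 1, 0, 0, 0],
  ![1, 1, 1, 1, 0],
  ![1, 0, 0, 1, 0],
  ![1, 0, 1, 1, 1],
  ![1, 1, 0, 1, 0],
  ![1, 1, 1, 1, 1],
  ![1, 0, 0, 1, 1],
  ![1, 0, 1, 0, 1],
  ![1, 1, 0, 1, 1],
  ![1, 1, 1, 0, 1],
  ![1, 0, 0, 0, 1],
  ![1, 1, 0, 0, 1],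
  ![0, 1, 0, 0, 0],
  ![0, 0, 1, 0, 0],
  ![0, 0, 1, 1, 0],
  ![0, 0, 1, 1, 1],
  ![0, 1, 1, 1, 1],
  ![0, 0, 0, 1, 1],
  ![0, 0, 1, 0, 1],
  ![0, 1, 0, 1, 1],
  ![0, 1, 1, 0, 1],
  ![0, 0, 0, 0, 1],
  ![0, 1, 0, 0, 1],
  ![0, 1, 1, 1, 0],
  ![0, 0, 0, 1, 0],
  ![0, 1, 0, 1, 0],
  ![0, 1, 1, 0, 0],
  ![0, 0, 0, 0, 0]].getD p 0

theorem mA_det (x : ℕ) : (mA x).det = 1 := by
  rw [det_fin_three]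
  by_cases h : x < 10
  · revert x; decide +kernel
  · rw [mA, List.getD_eq_default _ _ (not_lt.1 h)]; decide

def mS (x : ℕ) : SpecialLinearGroup (Fin 5) (ZMod 2) := ⟨mk5 (mx x) (mA x), (det_mk5 _ _).trans (mA_det x)⟩

noncomputable def Rz : List (List ℕ × ℕ) := apd (L.map fun x => ([x, x], 0)) R

theorem iso {s : SpecialLinearGroup (Fin 5) (ZMod 2)} (hs : (s : Matrix (Fin 5) (Fin 5) (ZMod 2)) = transvection 0 1 1) :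
    Nonempty (cl (gp nets) L ≃* Subgroup.centralizer ({s} : Set (SpecialLinearGroup (Fin 5) (ZMod 2)))) := by
  obtain ⟨f, h1, h2⟩ := mat_of_label nets_ok (Rz := Rz) nets_iv nets_rel ord lb (by decide +kernel)
    (rels_of_relsB (k := 5) nets_ok (by norm_num) (by decide +kernel)) Matrix.SpecialLinearGroup.coeMonoidHom
    Subtype.val_injective (δ := mS) (v := mv) (by decide +kernel) (by decide +kernel) (by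
      change ∀ x ∈ L, ∀ p < 32, mv p ᵥ* mk5 (mx x) (mA x) = _
      decide +kernel)
  exact iso_of_range h1 (h2.trans_le (cl_le.2 fun x _ => (mem_cent hs).2 ⟨_, _, rfl⟩)) ((card_cent hs).trans_le lb)

end Cfsg.Lib.Comp.Tv5x
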