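import Cfsg.Agent.Lib.Comp.Tv5x.Base

set_option maxRecDepth 100000
set_option Elab.async false

namespace Cfsg.Lib.Comp.Tv5x

universe u

noncomputable def nets_1 : Net :=
 (Net.cons 2 (nat_lit 0x2)
 (Net.cons 1 (nat_lit 0x1551)
 (Net.cons 2 (nat_lit 0x2330)
 (Net.cons 4 (nat_lit 0xf0f)
 (Net.cons 8 (nat_lit 0xff)
 Net.nil)))))

noncomputable def nets_2 : Net :=
 (Net.cons 8 (nat_lit 0x60)
 (Net.cons 4 (nat_lit 0xe08)
 (Net.cons 1 (nat_lit 0x5151)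
 (Net.cons 2 (nat_lit 0x3030)
 (Net.cons 4 (nat_lit 0x80e)
 (Net.cons 8 (nat_lit 0x87)
 Net.nil))))))

noncomputable def nets_3 : Net :=
 (Net.cons 8 (nat_lit 0x88)
 (Net.cons 4 (nat_lit 0xe08)
 (Net.cons 1 (nat_lit 0x1551)
 (Net.cons 2 (nat_lit 0x330)
 (Net.cons 4 (nat_lit 0x701)
 (Net.cons 8 (nat_lit 0x77)
 Net.nil))))))

noncomputable def nets_4 : Net :=
 (Net.cons 8 (nat_lit 0xc0)
 (Net.cons 4 (nat_lit 0x4)
 (Net.cons 2 (nat_lit 0x2)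
 (Net.cons 1 (nat_lit 0x44)
 (Net.cons 2 (nat_lit 0x3320)
 (Net.cons 4 (nat_lit 0xf0b)
 (Net.cons 8 (nat_lit 0xc0)
 Net.nil)))))))

noncomputable def nets_5 : Net :=
 (Net.cons 8 (nat_lit 0x4000e8)
 (Net.cons 4 (nat_lit 0x2020a04)
 (Net.cons 2 (nat_lit 0x20200022)
 (Net.cons 1 (nat_lit 0x40104114)
 (Net.cons 2 (nat_lit 0x21223311)
 (Net.cons 4 (nat_lit 0x202050b)
 (Net.cons 8 (nat_lit 0x4000e8)
 Net.nil)))))))

noncomputable def nets_6 : Net :=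
 (Net.cons 8 (nat_lit 0xa8000e)
 (Net.cons 4 (nat_lit 0x2000a04)
 (Net.cons 2 (nat_lit 0x20)
 (Net.cons 1 (nat_lit 0x5005145)
 (Net.cons 2 (nat_lit 0x23102131)
 (Net.cons 4 (nat_lit 0x2000b05)
 (Net.cons 8 (nat_lit 0xa800f1)
 Net.nil)))))))

noncomputable def nets_7 : Net :=
 (Net.cons 8 (nat_lit 0xb0007c)
 (Net.cons 4 (nat_lit 0x8080000)
 (Net.cons 2 (nat_lit 0x2200)
 (Net.cons 1 (nat_lit 0x4404155)
 (Net.cons 2 (nat_lit 0x1100)
 (Net.cons 4 (nat_lit 0xb080f00)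
 (Net.cons 8 (nat_lit 0xb0007c)
 Net.nil)))))))

noncomputable def nets_8 : Net :=
 (Net.cons 8 (nat_lit 0x8000c8)
 (Net.cons 4 (nat_lit 0x40000)
 (Net.cons 2 (nat_lit 0x20000002)
 (Net.cons 1 (nat_lit 0x10005511)
 (Net.cons 2 (nat_lit 0x20100020)
 (Net.cons 4 (nat_lit 0x40f0f)
 (Net.cons 8 (nat_lit 0xa800e9)
 Net.nil)))))))

noncomputable def nets_9 : Net :=
 (Net.cons 8 (nat_lit 0xe80000)
 (Net.cons 4 (nat_lit 0xc000002)
 (Net.cons 2 (nat_lit 0x20002002)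
 (Net.cons 1 (nat_lit 0x40004551)
 (Net.cons 2 (nat_lit 0x22021331)
 (Net.cons 4 (nat_lit 0xc040d0f)
 (Net.cons 8 (nat_lit 0xe800ff)
 Net.nil)))))))

noncomputable def nets : List Net := [Net.nil,
 nets_1,
 nets_2,
 nets_3,
 nets_4,
 nets_5,
 nets_6,
 nets_7,
 nets_8,
 nets_9]

theorem nets_ok : NetsOK 32 nets := netsOK_of (by decide +kernel)

theorem nets_rel : Rels (gp nets) R := rels_of_relsB (k := 5) nets_ok (by norm_num) (by decide +kernel)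

theorem nets_iv : IvOK (gp nets) iv := ivOK_of_ivB (k := 5) nets_ok (by norm_num) (by decide +kernel)

noncomputable def slp : List (ℕ × List ℕ) := []

theorem slp_ok : slpB 32 5 nets slp L = true := by decide +kernel

theorem mem_all {x : ℕ} (h : x ∈ L ++ slp.map (·.1)) : gp nets x ∈ cl (gp nets) L :=
  cl_eq_of_slpB nets_ok (by norm_num) slp_ok ▸ mem_cl h

theorem lb : 21504 ≤ Nat.card (cl (gp nets) L) := by
  rw [← cl_eq_of_slpB nets_ok (by norm_num) slp_ok]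
  exact lb_of_chainB nets_ok (C := [([1,2,3,4,5,6,7,8],[9,8,5,6,7,8,9],17,17,14),
 ([1,2,3,4,5,6,7],[8,5,6,7,8],18,18,12),
 ([1,2,3,4],[5,6,7],19,19,8),
 ([],[1,2,3,4],0,0,16)]) (by decide +kernel)

end Cfsg.Lib.Comp.Tv5x
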